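import Groth.Agent.EtRpushStalkLib.System
import Groth.Agent.EtProperH0Lib.ShSystem
import Groth.Agent.EtProperH0Lib.ShIdent
import Groth.Agent.S12237
import Groth.Agent.S0736
import Groth.Prelude.Def_Hens2

/-!
# Existence of charts for strict localisations
-/

set_option autoImplicit false
set_option linter.unusedSectionVars false
set_option linter.style.haveILetI false
set_option backward.isDefEq.respectTransparency false
set_option backward.isDefEq.respectTransparency.types false
set_option synthInstance.maxHeartbeats 400000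
set_option maxHeartbeats 1000000

universe u

open CategoryTheory CategoryTheory.Limits AlgebraicGeometry Opposite TensorProduct EtProperH0Lib AlgSpRegLib

noncomputable section

namespace EtRpushStalkLib

theorem weaklyEtale_localization {A : Type u} [CommRing A] (M : Submonoid A) (L : Type u) [CommRing L]
    [Algebra A L] [IsLocalization M L] : Algebra.WeaklyEtale A L := by
  haveI : TensorProduct.CompatibleSMul A L L L := IsLocalization.tensorProduct_compatibleSMul M L L L
  refine ⟨IsLocalization.flat L M, RingHom.Flat.of_bijective ⟨?_, fun l => ⟨l ⊗ₜ 1, ?_⟩⟩⟩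
  · have h : ∀ z : L ⊗[A] L, z = (Algebra.TensorProduct.lmul' A (S := L) z) ⊗ₜ[A] (1 : L) := by
      intro z
      induction z using TensorProduct.induction_on with
      | zero => simp
      | add a b ha hb => rw [map_add, TensorProduct.add_tmul, ← ha, ← hb]
      | tmul a b =>
        rw [Algebra.TensorProduct.lmul'_apply_tmul, mul_comm a b, ← smul_eq_mul, TensorProduct.smul_tmul,
          smul_eq_mul, mul_one]
    intro z z' hz
    rw [h z, h z']
    exact congrArg (fun t => t ⊗ₜ[A] (1 : L)) hz
  · exact (Algebra.TensorProduct.lmul'_apply_tmul l 1).trans (mul_one l)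

theorem exists_chart {S : Scheme.{u}} (s : S) (R : Type u) [CommRing R] [IsLocalRing R]
    [Algebra (S.presheaf.stalk s) R] [IsLocalHom (algebraMap (S.presheaf.stalk s) R)]
    [Hensel.IsStrictHenselization (S.presheaf.stalk s) R] [IsSepClosed (IsLocalRing.ResidueField R)] :
    Nonempty (Chart (Hens2.specOf S s R)) := by
  haveI : HenselianLocalRing R := Hensel.IsStrictHenselization.henselian (R := S.presheaf.stalk s)
  obtain ⟨_, ⟨U, hU, rfl⟩, hs, -⟩ := (S.isBasis_affineOpens).exists_subset_of_mem_open
    (Set.mem_univ s) isOpen_univ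
  let A := Γ(S, U)
  let P : Ideal A := (hU.primeIdealOf ⟨s, hs⟩).asIdeal
  letI : Algebra A (S.presheaf.stalk s) := S.presheaf.algebra_section_stalk ⟨s, hs⟩
  haveI : IsLocalization.AtPrime (S.presheaf.stalk s) P := hU.isLocalization_stalk ⟨s, hs⟩
  haveI : Algebra.WeaklyEtale A (S.presheaf.stalk s) := weaklyEtale_localization P.primeCompl _
  haveI : Algebra.WeaklyEtale (S.presheaf.stalk s) R :=
    Groth.Agent.S0736.result _ R (Groth.Agent.S12237.result (S.presheaf.stalk s) R)
  letI : Algebra A R := ((algebraMap (S.presheaf.stalk s) R).comp (algebraMap A (S.presheaf.stalk s))).toAlgebra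
  haveI : IsScalarTower A (S.presheaf.stalk s) R := IsScalarTower.of_algebraMap_eq' rfl
  haveI : Algebra.WeaklyEtale A R := Algebra.WeaklyEtale.trans A (S.presheaf.stalk s) R
  have hP : (IsLocalRing.maximalIdeal R).comap (algebraMap A R) = P := by
    show (IsLocalRing.maximalIdeal R).comap
      ((algebraMap (S.presheaf.stalk s) R).comp (algebraMap A (S.presheaf.stalk s))) = P
    rw [← Ideal.comap_comap, IsLocalRing.maximalIdeal_comap]
    exact IsLocalization.AtPrime.comap_maximalIdeal _ P
  obtain ⟨ψ, hψ, hψι⟩ := exists_shIdent A R P hP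
  obtain ⟨I, _, _, D, ⟨pt, π⟩, hpt, ⟨hc⟩, hD⟩ := exists_sh_system (A := A) P
  obtain rfl : pt = Over.mk (Spec.map (CommRingCat.ofHom (shι P))) := hpt
  haveI : IsIso (CommRingCat.ofHom ψ) := (ConcreteCategory.isIso_iff_bijective _).2 hψ
  let e : Spec (CommRingCat.of R) ≅ Spec (CommRingCat.of (ShAt P)) :=
    asIso (Spec.map (CommRingCat.ofHom ψ))
  have hw : ∀ i, (e.hom ≫ (π.app i).left) ≫ (D.obj i).hom ≫ hU.fromSpec = Hens2.specOf S s R := by
    intro i
    have h1 : (π.app i).left ≫ (D.obj i).hom = Spec.map (CommRingCat.ofHom (shι P)) := Over.w (π.app i)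
    show _ = Spec.map (CommRingCat.ofHom (algebraMap (S.presheaf.stalk s) R)) ≫ S.fromSpecStalk s
    rw [← hU.fromSpecStalk_eq_fromSpecStalk hs, IsAffineOpen.fromSpecStalk, ← Category.assoc,
      ← Category.assoc (Spec.map _)]
    refine congrArg (· ≫ hU.fromSpec) ?_
    rw [Category.assoc, h1]
    show Spec.map (CommRingCat.ofHom ψ) ≫ Spec.map _ = _
    rw [← Spec.map_comp, ← Spec.map_comp]
    refine congrArg Spec.map (CommRingCat.hom_ext ?_)
    exact hψι
  have hE : ∀ i, EtCoh.etaleMP ((D.obj i).hom ≫ hU.fromSpec) := fun i => by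
    haveI := (hD i).2
    exact (inferInstance : AlgebraicGeometry.Etale ((D.obj i).hom ≫ hU.fromSpec))
  let DS : I ⥤ S.Etale :=
    { obj := fun i => MorphismProperty.Over.mk ⊤ ((D.obj i).hom ≫ hU.fromSpec) (hE i)
      map := fun {i j} a => MorphismProperty.Over.homMk (D.map a).left
        ((Category.assoc _ _ _).symm.trans (congrArg (· ≫ hU.fromSpec) (Over.w (D.map a))))
      map_id := fun i => MorphismProperty.Over.Hom.ext (by
        show (D.map (𝟙 i)).left = 𝟙 _
        rw [D.map_id]; rfl)
      map_comp := fun a b => MorphismProperty.Over.Hom.ext (by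
        show (D.map (a ≫ b)).left = (D.map a).left ≫ (D.map b).left
        rw [D.map_comp]; rfl) }
  have hnat : ∀ {i j : I} (a : i ⟶ j), (π.app i).left ≫ (D.map a).left = (π.app j).left := fun {i j} a => by
    have h := congrArg (fun z : _ ⟶ D.obj j => z.left) (π.naturality a)
    exact h.symm.trans (Category.id_comp _)
  refine ⟨{ I := I, DS := DS, aff := fun i => (hD i).1, π := fun i => e.hom ≫ (π.app i).left, w := hw,
            nat := fun {i j} a => (Category.assoc _ _ _).trans (congrArg (e.hom ≫ ·) (hnat a)), hc := ?_ }⟩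
  exact IsLimit.ofIsoLimit hc (Cone.ext e.symm fun i => (Iso.inv_hom_id_assoc e _).symm)

end EtRpushStalkLib
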