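import Groth.Agent.EtRpushStalkLib.Zero
import Groth.Agent.EtRpushStalkLib.Exists
import Groth.Agent.FormalPunctLib.ExtDelta
import Groth.Agent.FormalPunctLib.Iso
import Groth.Agent.EtCechInjLib.Delta

/-!
# The stalks of higher direct images
-/

set_option autoImplicit false
set_option linter.unusedSectionVars false
set_option linter.style.haveILetI false
set_option backward.isDefEq.respectTransparency false
set_option backward.isDefEq.respectTransparency.types false
set_option synthInstance.maxHeartbeats 400000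
set_option maxHeartbeats 1000000

universe u

open CategoryTheory CategoryTheory.Limits CategoryTheory.Abelian AlgebraicGeometry Opposite DescSecLib
open Groth.Agent.EtShLib

noncomputable section

namespace EtRpushStalkLib

attribute [local instance] EtSliceLib.pullExact

theorem sec_add {Y : Scheme.{u}} {G : EtCoh.Ab Y} (e e' : EtCoh.H Y G 0) :
    EtContLib.sec (e + e') = EtContLib.sec e + EtContLib.sec e' := by
  obtain ⟨φ, rfl⟩ := EtContLib.exists_mk₀ e
  obtain ⟨φ', rfl⟩ := EtContLib.exists_mk₀ e'
  rw [← Ext.mk₀_add, EtContLib.sec_mk₀, EtContLib.sec_mk₀, EtContLib.sec_mk₀]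
  rfl

theorem sec_comp_mk₀ {Y : Scheme.{u}} {G G' : EtCoh.Ab Y} (φ : G ⟶ G') (e : EtCoh.H Y G 0) :
    EtContLib.sec (e.comp (Ext.mk₀ φ) (add_zero 0)) = (EtCore.gsec Y).map φ (EtContLib.sec e) := by
  obtain ⟨ψ, rfl⟩ := EtContLib.exists_mk₀ e
  rw [Ext.mk₀_comp_mk₀, EtContLib.sec_mk₀, EtContLib.sec_mk₀, Functor.map_comp, ConcreteCategory.comp_apply]

/-- Cohomology in degree zero is the functor of global sections. -/
def extZeroGsec (Y : Scheme.{u}) : extFunctorObj (EtCoh.const Y ℤ) 0 ≅ EtCore.gsec Y :=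
  NatIso.ofComponents (fun G => AddEquiv.toAddCommGrpIso
      (AddEquiv.ofBijective (AddMonoidHom.mk' (EtContLib.sec (G := G)) sec_add)
        ⟨EtContLib.sec_injective, EtContLib.sec_surjective⟩))
    (fun {G G'} φ => by
      ext e
      exact sec_comp_mk₀ φ e)

theorem shortExact_pull {X Y : Scheme.{u}} (g : X ⟶ Y) {T : ShortComplex (EtCoh.Ab Y)} (hT : T.ShortExact) :
    (T.map (EtCoh.pull g)).ShortExact :=
  haveI := EtCore.pull_preservesFiniteColimits g
  hT.map_of_exact (EtCoh.pull g)

variable {X S : Scheme.{u}} (f : X ⟶ S) [QuasiCompact f] [QuasiSeparated f] {R : Type u} [CommRing R]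
  [HenselianLocalRing R] [IsSepClosed (IsLocalRing.ResidueField R)] {gS : Spec (CommRingCat.of R) ⟶ S}
  {Xb : Scheme.{u}} {g' : Xb ⟶ X} {f' : Xb ⟶ Spec (CommRingCat.of R)} (sq : IsPullback g' f' f gS) (C : Chart gS)

include sq C in
/-- The stalks of higher direct images are the cohomology of the fibre product with the strict localisation. -/
theorem nonempty_iso (n : ℕ) :
    Nonempty (EtCoh.Rpush f n ⋙ stk (A := AddCommGrpCat.{u + 1}) (closedPt R ≫ gS) ≅
      EtCoh.pull g' ⋙ extFunctorObj (EtCoh.const Xb ℤ) n) := by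
  haveI : PreservesFiniteLimits (stk (A := AddCommGrpCat.{u + 1}) (closedPt R ≫ gS)) := inferInstance
  haveI : PreservesFiniteColimits (stk (A := AddCommGrpCat.{u + 1}) (closedPt R ≫ gS)) := inferInstance
  haveI : IsIso (alpha f gS sq.w) := isIso_alpha f sq C
  let T := FormalPunctLib.compExact (EtCechInjLib.derDelta (EtCoh.push f))
    (stk (A := AddCommGrpCat.{u + 1}) (closedPt R ≫ gS))
  let T' := FormalPunctLib.extCompDelta (EtCoh.pull g') (fun {_} hT => shortExact_pull g' hT) (EtCoh.const Xb ℤ)
  have hT : T.Effaceable := FormalPunctLib.compExact_effaceable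
    (fun E hE i => haveI := hE; Functor.isZero_rightDerived_obj_injective_succ _ i E) _
  have hT' : T'.Effaceable := fun J hJ i => by
    haveI := hJ
    haveI : Subsingleton ↑((T'.F (i + 1)).obj J) := subsingleton_H f sq C J i
    exact AddCommGrpCat.isZero_of_subsingleton _
  exact ⟨LocCohLib.DeltaFun.isoOfZero (T := T) (T' := T') hT hT'
    (Functor.isoWhiskerRight (EtCoh.push f).rightDerivedZeroIsoSelf _ ≪≫ asIso (alpha f gS sq.w) ≪≫
      Functor.isoWhiskerLeft (EtCoh.pull g') (extZeroGsec Xb).symm) n⟩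

end EtRpushStalkLib
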