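import Groth.Agent.EtShLib.StrictLocal
import Groth.Agent.EtSliceLib.Basic

/-!
# Sections of inverse images at the closed point of a strictly henselian base
-/

set_option autoImplicit false
set_option linter.unusedSectionVars false
set_option linter.style.haveILetI false
set_option backward.isDefEq.respectTransparency false
set_option backward.isDefEq.respectTransparency.types false
set_option synthInstance.maxHeartbeats 400000
set_option maxHeartbeats 1000000

universe u

open CategoryTheory CategoryTheory.Limits AlgebraicGeometry Opposite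
open Groth.Agent.EtShLib

noncomputable section

namespace EtRpushStalkLib

/-- The morphism to the base change given by a morphism to an étale object. -/
def toFib {X T : Scheme.{u}} (W : X.Etale) (a : T ⟶ W.left) (h : T ⟶ X) (w : a ≫ W.hom = h) :
    EtCoh.top T ⟶ (EtCoh.bc h).obj W :=
  MorphismProperty.Over.homMk (pullback.lift a (𝟙 T) (w.trans (Category.id_comp h).symm)) (pullback.lift_snd _ _ _)

theorem toFib_fst {X T : Scheme.{u}} (W : X.Etale) (a : T ⟶ W.left) (h : T ⟶ X) (w : a ≫ W.hom = h) :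
    (toFib W a h w).left ≫ pullback.fst W.hom h = a :=
  pullback.lift_fst _ _ _

theorem toFib_map {X T : Scheme.{u}} {W W' : X.Etale} (g : W' ⟶ W) (a : T ⟶ W'.left) (a' : T ⟶ W.left)
    (h : T ⟶ X) (w : a ≫ W'.hom = h) (w' : a' ≫ W.hom = h) (hg : a ≫ g.left = a') :
    toFib W' a h w ≫ (EtCoh.bc h).map g = toFib W a' h w' := by
  refine DescSecLib.bc_hom_ext h _ _ ?_
  show ((toFib W' a h w).left ≫ _) ≫ _ = _
  rw [Category.assoc, DescSecLib.bc_map_fst, ← Category.assoc, toFib_fst, toFib_fst, hg]

variable {X S : Scheme.{u}} (f : X ⟶ S) {R : Type u} [CommRing R] [HenselianLocalRing R]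
  [IsSepClosed (IsLocalRing.ResidueField R)] (gS : Spec (CommRingCat.of R) ⟶ S) {Xb : Scheme.{u}} {g' : Xb ⟶ X}
  {f' : Xb ⟶ Spec (CommRingCat.of R)} (w : g' ≫ f = f' ≫ gS)

theorem exists_sigma (V : S.Etale) (v : Fib (closedPt R ≫ gS) V) :
    ∃ σ : Spec (CommRingCat.of R) ⟶ V.left, σ ≫ V.hom = gS ∧ closedPt R ≫ σ = v.hom := by
  haveI : AlgebraicGeometry.Etale V.hom := V.prop
  obtain ⟨σ, hσ⟩ := exists_section_fib R ((EtCoh.bc gS).obj V) (Fib.lift gS (closedPt R) v)
  refine ⟨σ.left ≫ pullback.fst V.hom gS, ?_, ?_⟩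
  · have h1 : σ.left ≫ pullback.snd V.hom gS = 𝟙 _ := MorphismProperty.Over.w σ
    exact (Category.assoc _ _ _).trans ((congrArg (σ.left ≫ ·) pullback.condition).trans
      ((Category.assoc _ _ _).symm.trans ((congrArg (· ≫ gS) h1).trans (Category.id_comp gS))))
  · have h2 : closedPt R ≫ σ.left = (Fib.lift gS (closedPt R) v).hom :=
      congrArg (fun z : Fib (closedPt R) ((EtCoh.bc gS).obj V) => z.hom) hσ
    exact (Category.assoc _ _ _).symm.trans ((congrArg (· ≫ pullback.fst V.hom gS) h2).trans (pullback.lift_fst _ _ _))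

/-- The morphism from the strict localisation to an étale neighbourhood. -/
def sigma (V : S.Etale) (v : Fib (closedPt R ≫ gS) V) : Spec (CommRingCat.of R) ⟶ V.left :=
  (exists_sigma gS V v).choose

theorem sigma_w (V : S.Etale) (v : Fib (closedPt R ≫ gS) V) : sigma gS V v ≫ V.hom = gS :=
  (exists_sigma gS V v).choose_spec.1

theorem closedPt_sigma (V : S.Etale) (v : Fib (closedPt R ≫ gS) V) : closedPt R ≫ sigma gS V v = v.hom :=
  (exists_sigma gS V v).choose_spec.2

theorem eq_sigma (V : S.Etale) (v : Fib (closedPt R ≫ gS) V) (σ : Spec (CommRingCat.of R) ⟶ V.left)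
    (hσ : σ ≫ V.hom = gS) (hc : closedPt R ≫ σ = v.hom) : σ = sigma gS V v := by
  haveI : AlgebraicGeometry.Etale V.hom := V.prop
  exact SubmDescLib.local_hom_ext (IsLocalRing.residue R) IsLocalRing.residue_surjective V.hom
    (hσ.trans (sigma_w gS V v).symm) (hc.trans (closedPt_sigma gS V v).symm)

theorem sigma_map {V V' : S.Etale} (g : V' ⟶ V) (v : Fib (closedPt R ≫ gS) V') :
    sigma gS V' v ≫ g.left = sigma gS V (v.map g) := by
  refine eq_sigma gS V _ _ ?_ ?_
  · exact (Category.assoc _ _ _).trans ((congrArg (sigma gS V' v ≫ ·) (MorphismProperty.Over.w g)).trans (sigma_w gS V' v))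
  · exact (Category.assoc _ _ _).symm.trans (congrArg (· ≫ g.left) (closedPt_sigma gS V' v))

include w in
/-- The morphism from the fibre product to the preimage of a neighbourhood. -/
theorem lift_sigma_w (V : S.Etale) (v : Fib (closedPt R ≫ gS) V) : (f' ≫ sigma gS V v) ≫ V.hom = g' ≫ f := by
  rw [Category.assoc, sigma_w, w]

/-- The point of the preimage of a neighbourhood. -/
def sigma' (V : S.Etale) (v : Fib (closedPt R ≫ gS) V) : Xb ⟶ ((EtCoh.bc f).obj V).left :=
  pullback.lift (f' ≫ sigma gS V v) g' (lift_sigma_w f gS w V v)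

theorem sigma'_w (V : S.Etale) (v : Fib (closedPt R ≫ gS) V) :
    sigma' f gS w V v ≫ ((EtCoh.bc f).obj V).hom = g' :=
  pullback.lift_snd _ _ _

theorem sigma'_map {V V' : S.Etale} (g : V' ⟶ V) (v : Fib (closedPt R ≫ gS) V') :
    sigma' f gS w V' v ≫ ((EtCoh.bc f).map g).left = sigma' f gS w V (v.map g) := by
  apply pullback.hom_ext
  · rw [Category.assoc, DescSecLib.bc_map_fst, ← Category.assoc]
    erw [pullback.lift_fst, pullback.lift_fst]
    rw [Category.assoc, sigma_map]
  · rw [Category.assoc, DescSecLib.bc_map_snd]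
    erw [pullback.lift_snd, pullback.lift_snd]

/-- The component at a neighbourhood. -/
def component (F : EtCoh.Ab X) (V : S.Etale) (v : Fib (closedPt R ≫ gS) V) :
    ((EtCoh.push f).obj F).obj.obj (op V) ⟶ (EtCore.gsec Xb).obj ((EtCoh.pull g').obj F) :=
  ((EtCoh.pullPushAdj g').unit.app F).hom.app (op ((EtCoh.bc f).obj V)) ≫
    ((EtCoh.pull g').obj F).obj.map
      (toFib ((EtCoh.bc f).obj V) (sigma' f gS w V v) g' (sigma'_w f gS w V v)).op

/-- From the stalk of the direct image to the sections on the fibre. -/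
def alphaApp (F : EtCoh.Ab X) :
    (stk (A := AddCommGrpCat.{u + 1}) (closedPt R ≫ gS)).obj ((EtCoh.push f).obj F) ⟶
      (EtCore.gsec Xb).obj ((EtCoh.pull g').obj F) :=
  (pt (closedPt R ≫ gS)).presheafFiberDesc (P := ((EtCoh.push f).obj F).obj) (component f gS w F)
    (fun {V' V} g v => by
      show F.obj.map ((EtCoh.bc f).map g).op ≫ _ ≫ _ = _
      refine ((Category.assoc _ _ _).symm.trans (congrArg (· ≫ _)
        (((EtCoh.pullPushAdj g').unit.app F).hom.naturality ((EtCoh.bc f).map g).op))).trans ?_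
      refine (Category.assoc _ _ _).trans ?_
      refine congrArg (((EtCoh.pullPushAdj g').unit.app F).hom.app _ ≫ ·) ?_
      show ((EtCoh.pull g').obj F).obj.map _ ≫ _ = _
      rw [← Functor.map_comp]
      refine congrArg ((EtCoh.pull g').obj F).obj.map ?_
      show ((EtCoh.bc g').map ((EtCoh.bc f).map g)).op ≫ _ = _
      rw [← op_comp]
      exact congrArg Quiver.Hom.op
        (toFib_map ((EtCoh.bc f).map g) _ _ g' _ _ (sigma'_map f gS w g v)))

theorem germ_alphaApp (F : EtCoh.Ab X) (V : S.Etale) (v : Fib (closedPt R ≫ gS) V) :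
    germ (closedPt R ≫ gS) ((EtCoh.push f).obj F) V v ≫ alphaApp f gS w F = component f gS w F V v :=
  (pt (closedPt R ≫ gS)).toPresheafFiber_presheafFiberDesc _ _ V v

/-- From the stalk of the direct image to the sections on the fibre, naturally. -/
def alpha : EtCoh.push f ⋙ stk (A := AddCommGrpCat.{u + 1}) (closedPt R ≫ gS) ⟶
    EtCoh.pull g' ⋙ EtCore.gsec Xb where
  app F := alphaApp f gS w F
  naturality F F' φ := by
    refine (pt (closedPt R ≫ gS)).presheafFiber_hom_ext fun V v => ?_
    show germ _ _ V v ≫ (stk _).map ((EtCoh.push f).map φ) ≫ _ = germ _ _ V v ≫ _ ≫ _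
    rw [← Category.assoc, germ_natural, Category.assoc, germ_alphaApp, ← Category.assoc _ (alphaApp f gS w F),
      germ_alphaApp]
    show φ.hom.app _ ≫ _ ≫ _ = (_ ≫ _) ≫ ((EtCoh.pull g').map φ).hom.app (op (EtCoh.top Xb))
    rw [Category.assoc, ((EtCoh.pull g').map φ).hom.naturality]
    have h := congrArg (fun t : F ⟶ _ => t.hom.app (op ((EtCoh.bc f).obj V)))
      ((EtCoh.pullPushAdj g').unit.naturality φ)
    rw [← Category.assoc]
    refine (congrArg (· ≫ ((EtCoh.pull g').obj F').obj.map _) h).trans ?_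
    exact Category.assoc _ _ _

end EtRpushStalkLib
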