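import Groth.Agent.EtRpushStalkLib.Germ
import Groth.Agent.EtContLib.PullSys

/-!
# Sections over étale objects and inverse images
-/

set_option autoImplicit false
set_option linter.unusedSectionVars false
set_option linter.style.haveILetI false
set_option backward.isDefEq.respectTransparency false
set_option backward.isDefEq.respectTransparency.types false
set_option synthInstance.maxHeartbeats 400000
set_option maxHeartbeats 1000000

universe u

open CategoryTheory CategoryTheory.Limits CategoryTheory.Abelian AlgebraicGeometry Opposite DescSecLib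
open Groth.Agent.EtShLib

noncomputable section

namespace EtRpushStalkLib

attribute [local instance] EtSliceLib.pullExact

theorem bcTop_diag_comp {X T : Scheme.{u}} (W : X.Etale) (a : T ⟶ W.left) (h : T ⟶ X) (w : a ≫ W.hom = h) :
    (EtCore.bcTopIso a).inv ≫ (EtCoh.bc a).map (EtSliceLib.diag W) ≫ bcCompHom a W.hom h w W =
      toFib W a h w := by
  refine bc_hom_ext h _ _ ?_
  show ((EtCore.bcTopIso a).inv.left ≫ ((EtCoh.bc a).map (EtSliceLib.diag W)).left ≫ _) ≫ _ = _
  rw [Category.assoc, Category.assoc, bcCompHom_fst]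
  refine Eq.trans ?_ (toFib_fst W a h w).symm
  rw [← Category.assoc ((EtCoh.bc a).map (EtSliceLib.diag W)).left]
  erw [DescSecLib.bc_map_fst]
  rw [Category.assoc]
  erw [pullback.lift_fst]
  refine (congrArg ((EtCore.bcTopIso a).inv.left ≫ ·) (Category.comp_id _)).trans ?_
  have h1 : (EtCore.bcTopIso a).inv.left ≫ pullback.snd (EtCoh.top W.left).hom a = 𝟙 T :=
    MorphismProperty.Over.w (EtCore.bcTopIso a).inv
  have h2 : pullback.fst (EtCoh.top W.left).hom a = pullback.snd (EtCoh.top W.left).hom a ≫ a :=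
    (Category.comp_id _).symm.trans pullback.condition
  refine (congrArg ((EtCore.bcTopIso a).inv.left ≫ ·) h2).trans ?_
  exact (Category.assoc _ _ _).symm.trans ((congrArg (· ≫ a) h1).trans (Category.id_comp a))

/-- Inverse image of a section over an étale object. -/
theorem sec_HpullThen_k {X T : Scheme.{u}} (F : EtCoh.Ab X) (W : X.Etale) (a : T ⟶ W.left) (h : T ⟶ X)
    (w : a ≫ W.hom = h) (x : EtCoh.H W.left ((EtCoh.pull W.hom).obj F) 0)
    (t : ToType (F.obj.obj (op W))) (hx : EtContLib.sec x = EtSliceLib.sa W F t) :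
    EtContLib.sec (EtLim.HpullThen a ((EtCoh.pull W.hom).obj F)
        (EtContLib.adjL a (etSys.k F (Over.homMk a w : Over.mk h ⟶ Over.mk W.hom))) 0 x) =
      ((EtCoh.pull h).obj F).obj.map (toFib W a h w).op
        (((EtCoh.pullPushAdj h).unit.app F).hom.app (op W) t) := by
  rw [EtContLib.sec_HpullThen, hx]
  let k : (EtCoh.pull W.hom).obj F ⟶ (EtCoh.push a).obj ((EtCoh.pull h).obj F) :=
    etSys.k F (Over.homMk a w : Over.mk h ⟶ Over.mk W.hom)
  have hk : (EtCoh.pullPushAdj W.hom).homEquiv _ _ k =
      (EtCoh.pullPushAdj h).unit.app F ≫ (etPc a W.hom h w).app _ :=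
    etSys.homEquiv_k F (Over.homMk a w : Over.mk h ⟶ Over.mk W.hom)
  rw [Adjunction.homEquiv_unit] at hk
  have hk' := congrArg (fun z : F ⟶ _ => z.hom.app (op W) t) hk
  show ((EtCoh.pull h).obj F).obj.map (EtCore.bcTopIso a).inv.op (k.hom.app (op (EtCoh.top W.left))
    (((EtCoh.pull W.hom).obj F).obj.map (EtSliceLib.diag W).op
      (((EtCoh.pullPushAdj W.hom).unit.app F).hom.app (op W) t))) = _
  rw [NatTrans.naturality_apply k.hom]
  show ((EtCoh.pull h).obj F).obj.map (EtCore.bcTopIso a).inv.op
    (((EtCoh.pull h).obj F).obj.map ((EtCoh.bc a).map (EtSliceLib.diag W)).op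
      (k.hom.app (op ((EtCoh.bc W.hom).obj W)) (((EtCoh.pullPushAdj W.hom).unit.app F).hom.app (op W) t))) = _
  refine (congrArg (fun z => ((EtCoh.pull h).obj F).obj.map (EtCore.bcTopIso a).inv.op
    (((EtCoh.pull h).obj F).obj.map ((EtCoh.bc a).map (EtSliceLib.diag W)).op z)) hk').trans ?_
  show ((EtCoh.pull h).obj F).obj.map (EtCore.bcTopIso a).inv.op
    (((EtCoh.pull h).obj F).obj.map ((EtCoh.bc a).map (EtSliceLib.diag W)).op
      (((EtCoh.pull h).obj F).obj.map (bcCompHom a W.hom h w W).op
        (((EtCoh.pullPushAdj h).unit.app F).hom.app (op W) t))) = _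
  rw [← bcTop_diag_comp W a h w, op_comp, op_comp, Functor.map_comp, Functor.map_comp]
  rfl

/-- Restriction along a morphism of étale objects. -/
theorem sa_map {X : Scheme.{u}} (F : EtCoh.Ab X) {W W' : X.Etale} (g : W' ⟶ W) (t : ToType (F.obj.obj (op W))) :
    EtSliceLib.sa W' F (F.obj.map g.op t) =
      ((EtCoh.pull W'.hom).obj F).obj.map (toFib W g.left W'.hom (MorphismProperty.Over.w g)).op
        (((EtCoh.pullPushAdj W'.hom).unit.app F).hom.app (op W) t) := by
  show ((EtCoh.pull W'.hom).obj F).obj.map (EtSliceLib.diag W').op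
    (((EtCoh.pullPushAdj W'.hom).unit.app F).hom.app (op W') (F.obj.map g.op t)) = _
  refine (congrArg (((EtCoh.pull W'.hom).obj F).obj.map (EtSliceLib.diag W').op)
    (NatTrans.naturality_apply ((EtCoh.pullPushAdj W'.hom).unit.app F).hom g.op t)).trans ?_
  rw [← toFib_map g (𝟙 W'.left) g.left W'.hom (Category.id_comp _) (MorphismProperty.Over.w g)
    (Category.id_comp _), op_comp, Functor.map_comp]
  rfl

end EtRpushStalkLib
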