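import Groth.Agent.EtRpushStalkLib.Sec

/-!
# A strict localisation as a limit of affine étale neighbourhoods
-/

set_option autoImplicit false
set_option linter.unusedSectionVars false
set_option linter.style.haveILetI false
set_option backward.isDefEq.respectTransparency false
set_option backward.isDefEq.respectTransparency.types false
set_option synthInstance.maxHeartbeats 400000
set_option maxHeartbeats 1000000

universe u

open CategoryTheory CategoryTheory.Limits AlgebraicGeometry Opposite

noncomputable section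

namespace EtRpushStalkLib

/-- The underlying diagram of schemes of a diagram of étale objects. -/
def undl {I : Type u} [SmallCategory I] {S : Scheme.{u}} (DS : I ⥤ S.Etale) : I ⥤ Scheme.{u} where
  obj i := (DS.obj i).left
  map a := (DS.map a).left
  map_id i := by rw [DS.map_id]; rfl
  map_comp a b := by rw [DS.map_comp]; rfl

/-- A strict localisation as a limit of affine étale neighbourhoods. -/
structure Chart {S : Scheme.{u}} {R : Type u} [CommRing R] (gS : Spec (CommRingCat.of R) ⟶ S) where
  /-- The index category. -/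
  I : Type u
  [cat : SmallCategory I]
  [cof : IsCofiltered I]
  /-- The neighbourhoods. -/
  DS : I ⥤ S.Etale
  aff : ∀ i, IsAffine (DS.obj i).left
  /-- The projections. -/
  π : ∀ i, Spec (CommRingCat.of R) ⟶ (DS.obj i).left
  w : ∀ i, π i ≫ (DS.obj i).hom = gS
  nat : ∀ {i j : I} (a : i ⟶ j), π i ≫ (DS.map a).left = π j
  hc : IsLimit (⟨Spec (CommRingCat.of R), ⟨π, fun i j a => (Category.id_comp _).trans (nat a).symm⟩⟩ : Cone (undl DS))

attribute [instance] Chart.cat Chart.cof

namespace Chart

variable {S : Scheme.{u}} {R : Type u} [CommRing R] {gS : Spec (CommRingCat.of R) ⟶ S} (C : Chart gS)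

/-- The cone of the chart. -/
abbrev cone : Cone (undl C.DS) :=
  ⟨Spec (CommRingCat.of R), ⟨C.π, fun i j a => (Category.id_comp _).trans (C.nat a).symm⟩⟩

instance affine_DS (i : C.I) : IsAffine (C.DS.obj i).left := C.aff i

instance affine_undl (i : C.I) : IsAffine ((undl C.DS).obj i) := C.aff i

variable {X : Scheme.{u}} (f : X ⟶ S) {Xb : Scheme.{u}} {g' : Xb ⟶ X} {f' : Xb ⟶ Spec (CommRingCat.of R)}
  (sq : IsPullback g' f' f gS)

/-- The preimages of the neighbourhoods. -/
def D : C.I ⥤ Scheme.{u} where
  obj i := ((EtCoh.bc f).obj (C.DS.obj i)).left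
  map a := ((EtCoh.bc f).map (C.DS.map a)).left
  map_id i := by rw [C.DS.map_id, CategoryTheory.Functor.map_id]; rfl
  map_comp a b := by rw [C.DS.map_comp, Functor.map_comp]; rfl

/-- The structure maps. -/
def t : C.D f ⟶ (Functor.const C.I).obj X where
  app i := ((EtCoh.bc f).obj (C.DS.obj i)).hom
  naturality i j a := (MorphismProperty.Over.w ((EtCoh.bc f).map (C.DS.map a))).trans (Category.comp_id _).symm

include sq in
theorem lift_w (i : C.I) : (f' ≫ C.π i) ≫ (C.DS.obj i).hom = g' ≫ f := by
  rw [Category.assoc, C.w, sq.w]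

/-- The projections of the fibre product. -/
def p (i : C.I) : Xb ⟶ ((EtCoh.bc f).obj (C.DS.obj i)).left :=
  pullback.lift (f' ≫ C.π i) g' (C.lift_w f sq i)

theorem p_fst (i : C.I) : C.p f sq i ≫ pullback.fst (C.DS.obj i).hom f = f' ≫ C.π i := pullback.lift_fst _ _ _

theorem p_hom (i : C.I) : C.p f sq i ≫ ((EtCoh.bc f).obj (C.DS.obj i)).hom = g' := pullback.lift_snd _ _ _

/-- The fibre product over the system. -/
def c : Cone (C.D f) where
  pt := Xb
  π :=
    { app := fun i => C.p f sq i
      naturality := fun i j a => by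
        show 𝟙 _ ≫ C.p f sq j = C.p f sq i ≫ ((EtCoh.bc f).map (C.DS.map a)).left
        rw [Category.id_comp]
        apply pullback.hom_ext
        · rw [Category.assoc, DescSecLib.bc_map_fst, ← Category.assoc, C.p_fst, C.p_fst, Category.assoc, C.nat]
        · rw [Category.assoc, DescSecLib.bc_map_snd]
          exact (C.p_hom f sq j).trans (C.p_hom f sq i).symm }

theorem c_hom (i : C.I) : (C.c f sq).π.app i ≫ (C.t f).app i = g' := C.p_hom f sq i

/-- The fibre product is the limit. -/
def isLimit : IsLimit (C.c f sq) := by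
  let j₀ : C.I := Classical.choice IsCofiltered.nonempty
  let hlim : IsLimit C.cone := C.hc
  have hv : ∀ (s : Cone (C.D f)) (i : C.I),
      s.π.app i ≫ ((EtCoh.bc f).obj (C.DS.obj i)).hom = s.π.app j₀ ≫ ((EtCoh.bc f).obj (C.DS.obj j₀)).hom := by
    intro s i
    have e : ∀ {k l : C.I} (a : k ⟶ l),
        s.π.app l ≫ ((EtCoh.bc f).obj (C.DS.obj l)).hom = s.π.app k ≫ ((EtCoh.bc f).obj (C.DS.obj k)).hom := by
      intro k l a
      rw [← s.w a, Category.assoc]
      exact congrArg (s.π.app k ≫ ·) (MorphismProperty.Over.w ((EtCoh.bc f).map (C.DS.map a)))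
    exact (e (IsCofiltered.minToLeft i j₀)).trans (e (IsCofiltered.minToRight i j₀)).symm
  let s' : Cone (C.D f) → Cone (undl C.DS) := fun s =>
    { pt := s.pt
      π :=
        { app := fun i => s.π.app i ≫ pullback.fst (C.DS.obj i).hom f
          naturality := fun i j a => by
            show 𝟙 _ ≫ _ = (s.π.app i ≫ _) ≫ (C.DS.map a).left
            rw [Category.id_comp, Category.assoc, ← DescSecLib.bc_map_fst, ← Category.assoc]
            exact congrArg (· ≫ pullback.fst (C.DS.obj j).hom f) (s.w a).symm } }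
  have hw : ∀ s : Cone (C.D f),
      (s.π.app j₀ ≫ ((EtCoh.bc f).obj (C.DS.obj j₀)).hom) ≫ f = hlim.lift (s' s) ≫ gS := by
    intro s
    refine Eq.trans ?_ (((Category.assoc _ _ _).trans (congrArg (hlim.lift (s' s) ≫ ·) (C.w j₀))))
    refine Eq.trans ?_ (congrArg (· ≫ (C.DS.obj j₀).hom) (hlim.fac (s' s) j₀)).symm
    exact (Category.assoc _ _ _).trans
      ((congrArg (s.π.app j₀ ≫ ·) pullback.condition.symm).trans (Category.assoc _ _ _).symm)
  refine
    { lift := fun s => sq.lift (s.π.app j₀ ≫ ((EtCoh.bc f).obj (C.DS.obj j₀)).hom) (hlim.lift (s' s)) (hw s)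
      fac := fun s i => ?_
      uniq := fun s m hm => ?_ }
  · apply pullback.hom_ext
    · refine (Category.assoc _ _ _).trans ((congrArg (_ ≫ ·) (C.p_fst f sq i)).trans ?_)
      rw [sq.lift_snd_assoc]
      exact hlim.fac (s' s) i
    · refine (Category.assoc _ _ _).trans ((congrArg (_ ≫ ·) (C.p_hom f sq i)).trans ?_)
      exact (sq.lift_fst _ _ _).trans (hv s i).symm
  · apply sq.hom_ext
    · rw [sq.lift_fst, ← hm j₀, Category.assoc]
      exact congrArg (m ≫ ·) (C.p_hom f sq j₀).symm
    · rw [sq.lift_snd]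
      refine hlim.hom_ext fun i => ?_
      rw [hlim.fac]
      show (m ≫ f') ≫ C.π i = s.π.app i ≫ _
      rw [← hm i, Category.assoc, Category.assoc]
      exact congrArg (m ≫ ·) (C.p_fst f sq i).symm

instance isAffineHom_map {i j : C.I} (a : i ⟶ j) : IsAffineHom ((C.D f).map a) :=
  MorphismProperty.of_isPullback (P := @IsAffineHom) (EtCoh.isPullback_bc_map f (C.DS.map a)).flip
    (inferInstanceAs (IsAffineHom (C.DS.map a).left))

instance compactSpace_D [QuasiCompact f] (i : C.I) : CompactSpace ((C.D f).obj i) := by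
  haveI : CompactSpace ((𝟭 Scheme.{u}).obj (C.DS.obj i).left) := inferInstanceAs (CompactSpace (C.DS.obj i).left)
  exact QuasiCompact.compactSpace_of_compactSpace (pullback.fst (C.DS.obj i).hom f)

instance quasiSeparatedSpace_D [QuasiSeparated f] (i : C.I) : QuasiSeparatedSpace ((C.D f).obj i) := by
  haveI : QuasiSeparatedSpace ((𝟭 Scheme.{u}).obj (C.DS.obj i).left) :=
    inferInstanceAs (QuasiSeparatedSpace (C.DS.obj i).left)
  exact quasiSeparatedSpace_of_quasiSeparated (pullback.fst (C.DS.obj i).hom f)

end Chart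

end EtRpushStalkLib
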