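import Groth.Agent.EtRpushStalkLib.System
import Groth.Agent.EtSliceLib.Basic
import Groth.Agent.CohLib.ExtShift

/-!
# The stalk of a direct image at a strict localisation
-/

set_option autoImplicit false
set_option linter.unusedSectionVars false
set_option linter.style.haveILetI false
set_option backward.isDefEq.respectTransparency false
set_option backward.isDefEq.respectTransparency.types false
set_option synthInstance.maxHeartbeats 400000
set_option maxHeartbeats 1000000

universe u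

open CategoryTheory CategoryTheory.Limits CategoryTheory.Abelian AlgebraicGeometry Opposite DescSecLib
open Groth.Agent.EtShLib

noncomputable section

namespace EtRpushStalkLib

attribute [local instance] EtSliceLib.pullExact
attribute [local irreducible] EtCore.Hpull EtLim.HpullThen

variable {X S : Scheme.{u}} (f : X ⟶ S) {R : Type u} [CommRing R] [HenselianLocalRing R]
  [IsSepClosed (IsLocalRing.ResidueField R)] {gS : Spec (CommRingCat.of R) ⟶ S} {Xb : Scheme.{u}}
  {g' : Xb ⟶ X} {f' : Xb ⟶ Spec (CommRingCat.of R)} (sq : IsPullback g' f' f gS) (C : Chart gS)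

/-- The point of a neighbourhood in the chart. -/
def pointOf (i : C.I) : Fib (closedPt R ≫ gS) (C.DS.obj i) :=
  Fib.mk (closedPt R ≫ C.π i) (by rw [Category.assoc, C.w])

theorem pointOf_map {i j : C.I} (a : i ⟶ j) : (pointOf C i).map (C.DS.map a) = pointOf C j := by
  refine Fib.ext ?_
  rw [Fib.map_hom]
  show (closedPt R ≫ C.π i) ≫ _ = closedPt R ≫ C.π j
  rw [Category.assoc, C.nat]

theorem sigma_pointOf (i : C.I) : sigma gS (C.DS.obj i) (pointOf C i) = C.π i :=
  (eq_sigma gS _ _ _ (C.w i) rfl).symm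

theorem sigma'_pointOf (i : C.I) : sigma' f gS sq.w (C.DS.obj i) (pointOf C i) = C.p f sq i := by
  apply pullback.hom_ext
  · refine (pullback.lift_fst _ _ _).trans ?_
    rw [sigma_pointOf]
    exact (C.p_fst f sq i).symm
  · exact (pullback.lift_snd _ _ _).trans (C.p_hom f sq i).symm

variable (F : EtCoh.Ab X)

theorem alphaApp_germ (i : C.I) (t : ToType (((EtCoh.push f).obj F).obj.obj (op (C.DS.obj i)))) :
    alphaApp f gS sq.w F (germ (closedPt R ≫ gS) ((EtCoh.push f).obj F) (C.DS.obj i) (pointOf C i) t) =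
      ((EtCoh.pull g').obj F).obj.map
          (toFib ((EtCoh.bc f).obj (C.DS.obj i)) (C.p f sq i) g' (C.p_hom f sq i)).op
        (((EtCoh.pullPushAdj g').unit.app F).hom.app (op ((EtCoh.bc f).obj (C.DS.obj i))) t) := by
  refine (ConcreteCategory.comp_apply _ _ _).symm.trans
    ((ConcreteCategory.congr_hom (germ_alphaApp f gS sq.w F (C.DS.obj i) (pointOf C i)) t).trans ?_)
  have h : ∀ (a : Xb ⟶ ((EtCoh.bc f).obj (C.DS.obj i)).left) (ha : a ≫ ((EtCoh.bc f).obj (C.DS.obj i)).hom = g'),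
      a = C.p f sq i → toFib _ a g' ha = toFib _ (C.p f sq i) g' (C.p_hom f sq i) := by
    rintro a ha rfl
    rfl
  show ((EtCoh.pull g').obj F).obj.map (toFib ((EtCoh.bc f).obj (C.DS.obj i)) _ g' _).op _ = _
  rw [h _ _ (sigma'_pointOf f sq C i)]
  rfl

theorem compat {k j : C.I} (a : k ⟶ j) :
    (EtContLib.pullPre F (C.t f)).τ a ≫ (EtCoh.push ((C.D f).map a)).map
        (EtContLib.pullPsi F (C.t f) (C.c f sq) g' (C.c_hom f sq) k) =
      EtContLib.pullPsi F (C.t f) (C.c f sq) g' (C.c_hom f sq) j ≫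
        (etPc ((C.c f sq).π.app k) ((C.D f).map a) ((C.c f sq).π.app j) ((C.c f sq).w a)).app _ :=
  EtContLib.pullPsi_compat F (C.t f) (C.c f sq) g' (C.c_hom f sq) a

variable [QuasiCompact f] [QuasiSeparated f]

include C in
theorem surjective_alphaApp : Function.Surjective (alphaApp f gS sq.w F) := by
  intro y
  obtain ⟨e, rfl⟩ := EtContLib.sec_surjective y
  obtain ⟨i, x, hx⟩ := (EtContLib.pullPre F (C.t f)).surjective ((EtCoh.pull g').obj F)
    (EtContLib.pullPsi F (C.t f) (C.c f sq) g' (C.c_hom f sq)) (fun {k j} a => compat f sq C F a)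
    (C.isLimit f sq) (EtContLib.isLim_pullPre F (C.t f) (C.c f sq) g' (C.c_hom f sq)) 0 e
  obtain ⟨t, ht⟩ := (EtSliceLib.bijective_sa ((EtCoh.bc f).obj (C.DS.obj i)) F).2 (EtContLib.sec x)
  refine ⟨germ (closedPt R ≫ gS) ((EtCoh.push f).obj F) (C.DS.obj i) (pointOf C i) t, ?_⟩
  refine (alphaApp_germ f sq C F i t).trans ?_
  refine Eq.trans ?_ (congrArg EtContLib.sec hx)
  exact (sec_HpullThen_k F ((EtCoh.bc f).obj (C.DS.obj i)) (C.p f sq i) g' (C.p_hom f sq i) x t ht.symm).symm

/-- A germ comes from the chart. -/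
theorem exists_pointOf (V : S.Etale) (v : Fib (closedPt R ≫ gS) V) :
    ∃ (i : C.I) (g : C.DS.obj i ⟶ V), (pointOf C i).map g = v := by
  haveI : AlgebraicGeometry.Etale V.hom := V.prop
  haveI : ∀ {i j : C.I} (a : i ⟶ j), IsAffineHom ((undl C.DS).map a) := fun {i j} a =>
    isAffineHom_of_isAffine ((undl C.DS).map a)
  let tS : undl C.DS ⟶ (Functor.const C.I).obj S :=
    { app := fun i => (C.DS.obj i).hom
      naturality := fun i j a => (MorphismProperty.Over.w (C.DS.map a)).trans (Category.comp_id _).symm }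
  obtain ⟨i, φ, hφ₁, hφ₂⟩ := Scheme.exists_π_app_comp_eq_of_locallyOfFinitePresentation (undl C.DS) tS V.hom
    C.cone C.hc (sigma gS V v) (NatTrans.ext (funext fun i => (C.w i).trans (sigma_w gS V v).symm))
  refine ⟨i, MorphismProperty.Over.homMk φ hφ₂, Fib.ext ?_⟩
  rw [Fib.map_hom]
  show (closedPt R ≫ C.π i) ≫ φ = v.hom
  rw [Category.assoc]
  exact (congrArg (closedPt R ≫ ·) hφ₁).trans (closedPt_sigma gS V v)

theorem sec_cone_eq_zero (i : C.I) (t : ToType (((EtCoh.push f).obj F).obj.obj (op (C.DS.obj i))))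
    (hz : alphaApp f gS sq.w F (germ (closedPt R ≫ gS) ((EtCoh.push f).obj F) (C.DS.obj i) (pointOf C i) t) = 0)
    (x : EtCoh.H ((C.D f).obj i) ((EtContLib.pullPre F (C.t f)).F i) 0)
    (hx : EtContLib.sec x = EtSliceLib.sa ((EtCoh.bc f).obj (C.DS.obj i)) F t) :
    EtLim.HpullThen ((C.c f sq).π.app i) ((EtContLib.pullPre F (C.t f)).F i)
      (EtContLib.adjL ((C.c f sq).π.app i) (EtContLib.pullPsi F (C.t f) (C.c f sq) g' (C.c_hom f sq) i)) 0 x = 0 := by
  apply EtContLib.sec_eq_zero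
  refine Eq.trans ?_ ((alphaApp_germ f sq C F i t).symm.trans hz)
  exact sec_HpullThen_k F ((EtCoh.bc f).obj (C.DS.obj i)) (C.p f sq i) g' (C.p_hom f sq i) x t hx

theorem res_eq_zero {i k : C.I} (a : k ⟶ i) (t : ToType (((EtCoh.push f).obj F).obj.obj (op (C.DS.obj i))))
    (x : EtCoh.H ((C.D f).obj i) ((EtContLib.pullPre F (C.t f)).F i) 0)
    (hx : EtContLib.sec x = EtSliceLib.sa ((EtCoh.bc f).obj (C.DS.obj i)) F t)
    (ha : EtLim.HpullThen ((C.D f).map a) ((EtContLib.pullPre F (C.t f)).F i)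
      (EtContLib.adjL ((C.D f).map a) ((EtContLib.pullPre F (C.t f)).τ a)) 0 x = 0) :
    F.obj.map ((EtCoh.bc f).map (C.DS.map a)).op t = 0 := by
  have h1 := (congrArg EtContLib.sec ha).trans EtContLib.sec_zero
  have h2 := sec_HpullThen_k F ((EtCoh.bc f).obj (C.DS.obj i)) ((C.D f).map a)
    ((EtCoh.bc f).obj (C.DS.obj k)).hom (MorphismProperty.Over.w ((EtCoh.bc f).map (C.DS.map a))) x t hx
  apply (EtSliceLib.bijective_sa ((EtCoh.bc f).obj (C.DS.obj k)) F).1
  refine (sa_map F ((EtCoh.bc f).map (C.DS.map a)) t).trans ((h2.symm.trans h1).trans ?_)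
  exact (map_zero _).symm

include C in
theorem injective_alphaApp : Function.Injective (alphaApp f gS sq.w F) := by
  refine (injective_iff_map_eq_zero (alphaApp f gS sq.w F).hom).2 fun z hz => ?_
  obtain ⟨V, v, t, rfl⟩ := exists_germ (closedPt R ≫ gS) z
  obtain ⟨i, g, hv⟩ := exists_pointOf C V v
  rw [← hv, ← germ_res_apply] at hz ⊢
  generalize ((EtCoh.push f).obj F).obj.map g.op t = t' at hz ⊢
  obtain ⟨x, hx⟩ := EtContLib.sec_surjective (EtSliceLib.sa ((EtCoh.bc f).obj (C.DS.obj i)) F t')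
  obtain ⟨k, a, ha⟩ := (EtContLib.pullPre F (C.t f)).eq_zero ((EtCoh.pull g').obj F)
    (EtContLib.pullPsi F (C.t f) (C.c f sq) g' (C.c_hom f sq)) (fun {k j} a => compat f sq C F a)
    (C.isLimit f sq) (EtContLib.isLim_pullPre F (C.t f) (C.c f sq) g' (C.c_hom f sq)) 0 i x
    (sec_cone_eq_zero f sq C F i t' hz x hx)
  rw [← pointOf_map C a, ← germ_res_apply]
  exact (congrArg (germ (closedPt R ≫ gS) ((EtCoh.push f).obj F) (C.DS.obj k) (pointOf C k))
    (res_eq_zero f C F a t' x hx ha)).trans (map_zero _)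

include C in
theorem isIso_alpha : IsIso (alpha f gS sq.w) := by
  haveI : ∀ F, IsIso ((alpha f gS sq.w).app F) := fun F =>
    (ConcreteCategory.isIso_iff_bijective (alphaApp f gS sq.w F)).2
      ⟨injective_alphaApp f sq C F, surjective_alphaApp f sq C F⟩
  exact NatIso.isIso_of_isIso_app _

include C sq in
/-- Vanishing of the higher cohomology of the inverse image of an injective sheaf. -/
theorem subsingleton_H (J : EtCoh.Ab X) [Injective J] (n : ℕ) :
    Subsingleton (EtCoh.H Xb ((EtCoh.pull g').obj J) (n + 1)) := by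
  refine subsingleton_of_forall_eq 0 fun e => ?_
  obtain ⟨i, x, hx⟩ := (EtContLib.pullPre J (C.t f)).surjective ((EtCoh.pull g').obj J)
    (EtContLib.pullPsi J (C.t f) (C.c f sq) g' (C.c_hom f sq)) (fun {k j} a => compat f sq C J a)
    (C.isLimit f sq) (EtContLib.isLim_pullPre J (C.t f) (C.c f sq) g' (C.c_hom f sq)) (n + 1) e
  haveI := EtSliceLib.injective_pull ((EtCoh.bc f).obj (C.DS.obj i)) J
  haveI : Subsingleton (EtCoh.H ((C.D f).obj i) ((EtContLib.pullPre J (C.t f)).F i) (n + 1)) :=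
    CohLib.subsingleton_ext_injective _ ((EtCoh.pull ((EtCoh.bc f).obj (C.DS.obj i)).hom).obj J) n
  rw [← hx, Subsingleton.elim x 0, map_zero]

end EtRpushStalkLib
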